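import Groth.Agent.EtAlg.K405.Ctx
import Mathlib.FieldTheory.Minpoly.IsConjRoot
import Mathlib.FieldTheory.Normal.Closure

/-!
# Conjugates over a subfield of `Ω` and automorphisms
-/

set_option autoImplicit false

namespace Groth.Agent.EtAlg.K235.Conj

open Groth.Agent.Etalg.EppFrame Polynomial Groth.Agent.EtAlg.K405

variable {Ω : Type} [NormedField Ω] [IsAlgClosed Ω]

/-- `Ω` is normal over every subfield over which it is algebraic -/
theorem normal_of_alg {A : Subfield Ω} (halg : ∀ x : Ω, IsAlgebraic A x) : Normal A Ω := by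
  have : Algebra.IsAlgebraic A Ω := ⟨halg⟩
  have : IsAlgClosure A Ω := ⟨inferInstance, inferInstance⟩
  exact IsAlgClosure.normal A Ω

/-- conjugates are images under automorphisms -/
theorem exists_aut {A : Subfield Ω} (halg : ∀ x : Ω, IsAlgebraic A x) {x y : Ω}
    (h : aeval y (minpoly A x) = 0) : ∃ σ : Ω ≃ₐ[A] Ω, σ x = y := by
  have := normal_of_alg halg
  have h1 : IsConjRoot A x y := (isConjRoot_iff_aeval_eq_zero (halg x).isIntegral).2 h
  exact isConjRoot_iff_exists_algEquiv.1 h1.symm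

/-- automorphisms over a bigger field are automorphisms over a smaller one -/
def res {A B : Subfield Ω} (h : A ≤ B) (σ : Ω ≃ₐ[B] Ω) : Ω ≃ₐ[A] Ω :=
  AlgEquiv.ofRingEquiv (f := σ.toRingEquiv) (fun x => σ.commutes ⟨x, h x.2⟩)

theorem res_apply {A B : Subfield Ω} (h : A ≤ B) (σ : Ω ≃ₐ[B] Ω) (x : Ω) : res h σ x = σ x := rfl

/-- a separable element fixed by all automorphisms is in the base -/
theorem mem_of_fixed {A : Subfield Ω} (halg : ∀ x : Ω, IsAlgebraic A x) {x : Ω} (hs : IsSeparable A x)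
    (h : ∀ σ : Ω ≃ₐ[A] Ω, σ x = x) : x ∈ A := by
  by_contra hx
  have h1 : x ∉ (⊥ : Subalgebra A Ω) := by
    intro h2
    obtain ⟨a, rfl⟩ := Algebra.mem_bot.1 h2
    exact hx a.2
  obtain ⟨y, hy, hc⟩ := (notMem_iff_exists_ne_and_isConjRoot hs (IsAlgClosed.splits _)).1 h1
  have := normal_of_alg halg
  obtain ⟨σ, hσ⟩ := isConjRoot_iff_exists_algEquiv.1 hc.symm
  exact hy ((h σ).symm.trans hσ)

end Groth.Agent.EtAlg.K235.Conj
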