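import Groth.Agent.EtAlg.K405.Ctx
import Groth.Agent.Etalg.EppUp

/-!
# Finite extensions of discretely valued subfields, `LL` over `MM s1`
-/

set_option autoImplicit false

namespace Groth.Agent.EtAlg.K235.Fin

open Groth.Agent.Etalg.EppFrame Groth.Agent.Etalg.EppVal Groth.Agent.Etalg.EppUp Polynomial
  Groth.Agent.EtAlg.K405

variable {Ω : Type} [NormedField Ω]

/-- a finite extension of a discretely valued subfield is discretely valued -/
theorem disc_of_finExt [IsUltrametricDist Ω] {A B : Subfield Ω} (h : FinExt A B) {π : Ω} (hπ : π ∈ A)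
    (hd : Disc A π) : ∃ ρ ∈ B, Disc B ρ := by
  have h1 : IsDiscreteValuationRing (VA A) := (isDVR_of_disc hπ hd).1
  have h2 : IsDiscreteValuationRing (VA B) := isDVR_of_finExt h
  obtain ⟨ϖ, hϖ⟩ := IsDiscreteValuationRing.exists_irreducible (VA B)
  exact ⟨_, (ϖ : B).2, disc_of_irreducible hϖ⟩

variable (C : Ctx Ω)

theorem K_le_MM (a : Ω) : C.K ≤ C.MM a := C.K_le_FF.trans (C.FF_le_MM a)

theorem K_le_LL : C.K ≤ C.LL := (K_le_MM C _).trans C.MM_le_LL

theorem finExt_LL : FinExt (C.MM C.s1) C.LL := by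
  refine ⟨{C.z}, ?_, ?_⟩
  · intro s _
    exact isAlgebraic_mono (K_le_MM C _) (C.alg s)
  · rw [Finset.coe_singleton]
    rfl

end Groth.Agent.EtAlg.K235.Fin
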