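import Groth.Agent.EtAlg.K235.Conj
import Groth.Agent.EtAlg.K235.Fin

/-!
# N15: the finite normal extension, from finiteness of `L' / LL` and discreteness of `LL`
-/

set_option autoImplicit false

namespace Groth.Agent.EtAlg.K235.Norm15

open Groth.Agent.Etalg.EppFrame Groth.Agent.Etalg.EppVal Polynomial
  Groth.Agent.EtAlg.K405 Groth.Agent.EtAlg.K235.Conj Groth.Agent.EtAlg.K235.Fin

variable {Ω : Type} [NormedField Ω]

/-- a field generated by stable sets is stable -/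
theorem stable_sup {A B : Subfield Ω} {T : Set Ω} (f : Ω →+* Ω) (hA : ∀ x ∈ A, f x ∈ A ⊔ B)
    (hB : B = Subfield.closure T) (hT : ∀ x ∈ T, f x ∈ A ⊔ B) : ∀ x ∈ A ⊔ B, f x ∈ A ⊔ B := by
  have h : A ⊔ B ≤ (A ⊔ B).comap f := by
    refine sup_le (fun x hx => hA x hx) ?_
    conv_lhs => rw [hB]
    rw [Subfield.closure_le]
    intro x hx
    exact hT x hx
  exact fun x hx => h hx

/-- the conjugates of `x` over `A`, as a finite set -/
noncomputable def conj (A : Subfield Ω) (x : Ω) : Finset Ω :=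
  by classical exact ((minpoly A x).aroots Ω).toFinset

theorem mem_conj {A : Subfield Ω} (halg : ∀ x : Ω, IsAlgebraic A x) {x y : Ω} :
    y ∈ conj A x ↔ aeval y (minpoly A x) = 0 := by
  classical
  rw [conj, Multiset.mem_toFinset, mem_aroots]
  exact ⟨fun h => h.2, fun h => ⟨minpoly.ne_zero (halg x).isIntegral, h⟩⟩

theorem self_mem_conj {A : Subfield Ω} (halg : ∀ x : Ω, IsAlgebraic A x) (x : Ω) : x ∈ conj A x :=
  (mem_conj halg).2 (minpoly.aeval A x)

theorem map_mem_conj {A : Subfield Ω} (halg : ∀ x : Ω, IsAlgebraic A x) {x y : Ω} (σ : Ω ≃ₐ[A] Ω)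
    (hy : y ∈ conj A x) : σ y ∈ conj A x := by
  rw [mem_conj halg] at hy ⊢
  have h := aeval_algHom_apply σ.toAlgHom y (minpoly A x)
  rw [hy, map_zero] at h
  exact h

variable (C : Ctx Ω)

theorem r_mem_kk [CharP Ω 2] : C.r ∈ C.kk := by
  rw [C.mem_kk]
  have h2 : (2 : Ω) = 0 := by
    have := CharP.cast_eq_zero Ω 2
    simpa using this
  have h2' : (2 : C.k0) = 0 := Subtype.ext h2
  let f : C.k0[X] := X ^ 2 + X + 1
  have hf : aeval C.r f = 0 := by
    simp only [f, map_add, map_pow, aeval_X, map_one]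
    exact C.r_eq
  have hsep : f.Separable := by
    rw [Polynomial.separable_def]
    have hd : derivative f = 1 := by
      simp only [f, derivative_add, derivative_X_pow, derivative_X, derivative_one]
      rw [show ((2 : ℕ) : C.k0) = 2 from rfl, h2']
      simp
    rw [hd]
    exact isCoprime_one_right
  exact hsep.of_dvd (minpoly.dvd _ _ hf)

theorem s1_mem_FF [CharP Ω 2] : C.s1 ∈ C.FF :=
  C.FF.add_mem (C.K_le_FF C.s_mem_K)
    (C.FF.mul_mem (C.kk_le_FF (r_mem_kk C)) (C.K_le_FF C.t_mem))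

/-- `LL` is stable under the automorphisms over `FF` -/
theorem LL_stable [CharP Ω 2] (σ : Ω ≃ₐ[C.FF] Ω) : ∀ x ∈ C.LL, σ x ∈ C.LL := by
  have hfix : ∀ x ∈ C.FF, σ x = x := fun x hx => σ.commutes ⟨x, hx⟩
  have hM : ∀ x ∈ C.MM C.s1, σ x ∈ C.MM C.s1 := by
    refine stable_sup (T := {y : Ω | ∃ m : ℕ, y ^ 2 ^ m = C.s1}) (σ : Ω →+* Ω) ?_ rfl ?_
    · intro x hx
      show σ x ∈ _
      rw [hfix x hx]
      exact (le_sup_left : C.FF ≤ _) hx
    · rintro y ⟨m, hm⟩
      refine (le_sup_right : Subfield.closure {y : Ω | ∃ m : ℕ, y ^ 2 ^ m = C.s1} ≤ _) (Subfield.subset_closure ⟨m, ?_⟩)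
      show σ y ^ 2 ^ m = C.s1
      rw [← map_pow, hm, hfix _ (s1_mem_FF C)]
  refine stable_sup (T := {C.z}) (σ : Ω →+* Ω) ?_ rfl ?_
  · intro x hx
    exact (le_sup_left : C.MM C.s1 ≤ _) (hM x hx)
  · intro x hx
    rw [Set.mem_singleton_iff] at hx
    subst hx
    show σ C.z ∈ C.LL
    have hz := C.z_mem_LL
    have h1 : σ C.z ^ 2 + σ C.z = C.z ^ 2 + C.z := by
      have h2 : C.s / C.t ^ 2 ∈ C.FF :=
        C.FF.div_mem (C.K_le_FF C.s_mem_K) (C.FF.pow_mem (C.K_le_FF C.t_mem) 2)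
      rw [← map_pow, ← map_add, C.z_eq, hfix _ h2]
    have h3 : (σ C.z - C.z) * (σ C.z + C.z + 1) = 0 := by linear_combination h1
    rcases mul_eq_zero.1 h3 with h | h
    · rw [sub_eq_zero.1 h]; exact hz
    · have h4 : σ C.z = -C.z - 1 := by linear_combination h
      rw [h4]
      exact C.LL.sub_mem (C.LL.neg_mem hz) C.LL.one_mem

/-- the core of N15 -/
theorem core [IsUltrametricDist Ω] [IsAlgClosed Ω] [CharP Ω 2] {K' L' : Subfield Ω} (hFK : C.FF ≤ K')
    (hKL : K' ≤ L') (hfin : FinExt C.LL L') {π : Ω} (hπ : π ∈ C.LL) (hd : Disc C.LL π) :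
    ∃ K₁ : Subfield Ω, FinExt K' K₁ ∧ NormalIn K' K₁ ∧ NormLe K₁ (L' ⊔ K₁) := by
  classical
  have aF : ∀ x : Ω, IsAlgebraic C.FF x := fun x => isAlgebraic_mono C.K_le_FF (C.alg x)
  have aK' : ∀ x : Ω, IsAlgebraic K' x := fun x => isAlgebraic_mono hFK (aF x)
  have aL : ∀ x : Ω, IsAlgebraic C.LL x := fun x => isAlgebraic_mono (K_le_LL C) (C.alg x)
  obtain ⟨S, hS, hL'⟩ := hfin
  let S' : Finset Ω := S.biUnion fun s => conj C.FF s
  let N : Subfield Ω := C.LL ⊔ Subfield.closure (S' : Set Ω)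
  have hNfin : FinExt C.LL N := ⟨S', fun s _ => aL s, rfl⟩
  have hLN : L' ≤ N := by
    rw [hL']
    refine sup_le_sup_left (Subfield.closure_mono ?_) _
    intro s hs
    exact Finset.mem_coe.2 (Finset.mem_biUnion.2 ⟨s, hs, self_mem_conj aF s⟩)
  have hNst : ∀ σ : Ω ≃ₐ[C.FF] Ω, ∀ x ∈ N, σ x ∈ N := by
    intro σ
    refine stable_sup (T := (S' : Set Ω)) (σ : Ω →+* Ω) ?_ rfl ?_
    · intro x hx
      exact (le_sup_left : C.LL ≤ _) (LL_stable C σ x hx)
    · intro x hx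
      obtain ⟨s, hs, hxs⟩ := Finset.mem_biUnion.1 (Finset.mem_coe.1 hx)
      exact (le_sup_right : Subfield.closure (S' : Set Ω) ≤ _) (Subfield.subset_closure
        (Finset.mem_coe.2 (Finset.mem_biUnion.2 ⟨s, hs, map_mem_conj aF σ hxs⟩)))
  obtain ⟨ρ, hρN, hρ⟩ := disc_of_finExt hNfin hπ hd
  let K₁ : Subfield Ω := K' ⊔ Subfield.closure (conj K' ρ : Set Ω)
  have hK₁N : K₁ ≤ N := by
    refine sup_le (hKL.trans hLN) ?_
    rw [Subfield.closure_le]
    intro y hy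
    have hy' := (mem_conj aK').1 (Finset.mem_coe.1 hy)
    obtain ⟨σ, hσ⟩ := exists_aut aK' hy'
    have := hNst (res hFK σ) ρ hρN
    rw [res_apply, hσ] at this
    exact this
  refine ⟨K₁, ⟨conj K' ρ, fun s _ => aK' s, rfl⟩, ?_, ?_⟩
  · intro x hx y hy
    obtain ⟨σ, rfl⟩ := exists_aut aK' hy
    refine stable_sup (T := (conj K' ρ : Set Ω)) (σ : Ω →+* Ω) ?_ rfl ?_ x hx
    · intro a ha
      have : σ a = a := σ.commutes ⟨a, ha⟩
      show σ a ∈ _
      rw [this]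
      exact (le_sup_left : K' ≤ _) ha
    · intro a ha
      exact (le_sup_right : Subfield.closure (conj K' ρ : Set Ω) ≤ _) (Subfield.subset_closure
        (Finset.mem_coe.2 (map_mem_conj aK' σ (Finset.mem_coe.1 ha))))
  · intro x hx
    have hxN : x ∈ N := (sup_le hLN hK₁N) hx
    by_cases h0 : x = 0
    · exact ⟨0, K₁.zero_mem, by rw [h0]⟩
    · obtain ⟨n, hn⟩ := hρ.2.2 x hxN h0
      have hρK : ρ ∈ K₁ := (le_sup_right : Subfield.closure (conj K' ρ : Set Ω) ≤ _)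
        (Subfield.subset_closure (Finset.mem_coe.2 (self_mem_conj aK' ρ)))
      exact ⟨ρ ^ n, zpow_mem hρK n, by rw [norm_zpow, hn]⟩

end Groth.Agent.EtAlg.K235.Norm15
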