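import Groth.Agent.EtAlg.K235.RefN15a
import Groth.Agent.EtAlg.K750.RefN7

/-!
# N15: a finite normal extension for `K' ≤ L'`
-/

set_option autoImplicit false

namespace Groth.Agent.EtAlg.K235.RefN15

open Groth.Agent.Etalg.EppFrame Groth.Agent.EtAlg.K405

variable {Ω : Type} [NormedField Ω] [IsUltrametricDist Ω] [IsAlgClosed Ω] [CharP Ω 2] (C : Ctx Ω)

theorem N15_normal {K' L' : Subfield Ω} (hFK : C.FF ≤ K') (hKL : K' ≤ L') (hL : C.LL ≤ L')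
    (hsep : ∀ x ∈ L', IsSeparable C.LL x) {ϖ : Ω} (hϖ : ϖ ∈ L') (hd : Disc L' ϖ) :
    ∃ K₁ : Subfield Ω, FinExt K' K₁ ∧ NormalIn K' K₁ ∧ NormLe K₁ (L' ⊔ K₁) :=
  RefN15a.N15_of C (K750.RefN7.N7a_disc C _ (Or.inl rfl)) (K750.RefN7.N7b_res C _ (Or.inl rfl))
    hFK hKL hL hsep hϖ hd

end Groth.Agent.EtAlg.K235.RefN15
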