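import Groth.Agent.EtAlg.K235.Norm15
import Groth.Agent.EtAlg.K458.RefN8

/-!
# N15 and N18 with N7a (discreteness of `MM s1`) and N7b (its residue field is full) as hypotheses
-/

set_option autoImplicit false

namespace Groth.Agent.EtAlg.K235.RefN15a

open Groth.Agent.Etalg.EppFrame Groth.Agent.Etalg.EppVal Polynomial
  Groth.Agent.EtAlg.K405 Groth.Agent.EtAlg.K235.Fin

variable {Ω : Type} [NormedField Ω] [IsUltrametricDist Ω] (C : Ctx Ω)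

theorem N18_of (h7a : Disc (C.MM C.s1) C.t) : ∃ ϖ ∈ C.LL, Disc C.LL ϖ :=
  disc_of_finExt (finExt_LL C) (K_le_MM C _ C.t_mem) h7a

theorem resFull_LL (h7b : ResFull (C.MM C.s1)) : ResFull C.LL := by
  intro x hx
  obtain ⟨y, hy, hxy⟩ := h7b x hx
  exact ⟨y, C.MM_le_LL hy, hxy⟩

theorem N15_of [IsAlgClosed Ω] [CharP Ω 2] (h7a : Disc (C.MM C.s1) C.t) (h7b : ResFull (C.MM C.s1))
    {K' L' : Subfield Ω} (hFK : C.FF ≤ K') (hKL : K' ≤ L') (hL : C.LL ≤ L')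
    (hsep : ∀ x ∈ L', IsSeparable C.LL x) {ϖ : Ω} (hϖ : ϖ ∈ L') (hd : Disc L' ϖ) :
    ∃ K₁ : Subfield Ω, FinExt K' K₁ ∧ NormalIn K' K₁ ∧ NormLe K₁ (L' ⊔ K₁) := by
  obtain ⟨π, hπ, hdπ⟩ := N18_of C h7a
  exact Norm15.core C hFK hKL
    (K458.RefN8.N8_fin C (K_le_LL C) hL hsep hπ hdπ hϖ hd (resFull_LL C h7b)) hπ hdπ

end Groth.Agent.EtAlg.K235.RefN15a
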