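import Groth.Agent.EtAlg.K235.Conj
import Groth.Agent.Etalg.EppVal

/-!
# N16: a subfield whose residue field contains the separable closure of the coefficient field contains `FF`
-/

set_option autoImplicit false

namespace Groth.Agent.EtAlg.K235.RefN16

open Groth.Agent.Etalg.EppFrame Groth.Agent.Etalg.EppVal Polynomial Groth.Agent.EtAlg.K405
  Groth.Agent.EtAlg.K235.Conj

variable {Ω : Type} [NormedField Ω] [IsUltrametricDist Ω] (C : Ctx Ω)

include C in
theorem norm_le_one_kb {x : Ω} (hx : x ∈ C.kb) : ‖x‖ ≤ 1 := by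
  have h1 : IsIntegral C.k0 x := (C.mem_kb.1 hx).isIntegral
  let f : C.k0 →+* VO Ω :=
    { toFun := fun a => ⟨a, by
        by_cases ha : (a : Ω) = 0
        · rw [ha]; exact (VO Ω).zero_mem
        · exact (C.k0_norm a a.2 ha).le⟩
      map_one' := rfl
      map_mul' := fun _ _ => rfl
      map_zero' := rfl
      map_add' := fun _ _ => rfl }
  have h2 : IsIntegral (VO Ω) x := by
    obtain ⟨p, hp, hpx⟩ := h1
    refine ⟨p.map f, hp.map f, ?_⟩
    rw [eval₂_map]
    exact hpx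
  obtain ⟨y, hy⟩ := IsIntegrallyClosed.isIntegral_iff.1 h2
  rw [← hy]
  exact y.2

include C in
theorem norm_kb {x : Ω} (hx : x ∈ C.kb) (h0 : x ≠ 0) : ‖x‖ = 1 := by
  refine le_antisymm (norm_le_one_kb C hx) ?_
  have h1 := norm_le_one_kb C (C.kb.inv_mem hx)
  rw [norm_inv] at h1
  exact (inv_le_one₀ (norm_pos_iff.2 h0)).1 h1

variable [IsAlgClosed Ω]

theorem N16_FF_le {K' : Subfield Ω} (hK : C.K ≤ K') (hres : ∀ θ ∈ C.kk, ∃ a ∈ K', ‖θ - a‖ < 1) : C.FF ≤ K' := by
  refine sup_le hK ?_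
  intro θ hθ
  have halg : ∀ x : Ω, IsAlgebraic K' x := fun x => isAlgebraic_mono hK (C.alg x)
  have hk0 : C.k0 ≤ K' := C.k0_le.trans hK
  have hs : IsSeparable K' θ := by
    have h1 : IsSeparable C.k0 θ := C.mem_kk.1 hθ
    let _ : Algebra C.k0 K' := (Subfield.inclusion hk0).toAlgebra
    have : IsScalarTower C.k0 K' Ω := IsScalarTower.of_algebraMap_eq fun _ => rfl
    exact h1.tower_top K'
  refine mem_of_fixed halg hs fun σ => ?_
  by_contra hne
  have h2 : σ θ - θ ∈ C.kb := by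
    refine C.kb.sub_mem ?_ (C.kk_le_kb hθ)
    have h3 := C.mem_kb.1 (C.kk_le_kb hθ)
    exact C.mem_kb.2 (h3.algHom (res hk0 σ).toAlgHom)
  have h4 := norm_kb C h2 (sub_ne_zero.2 hne)
  obtain ⟨a, ha, hθa⟩ := hres θ hθ
  have h5 : σ a = a := σ.commutes ⟨a, ha⟩
  have h6 : ‖σ (θ - a)‖ < 1 := by
    have := C.inv (res hK σ) (θ - a)
    rw [res_apply] at this
    rw [this]
    exact hθa
  have h7 : σ θ - θ = σ (θ - a) - (θ - a) := by rw [map_sub, h5]; ring
  have h8 : ‖σ θ - θ‖ < 1 := by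
    rw [h7]
    rw [sub_eq_add_neg]
    refine (IsUltrametricDist.norm_add_le_max _ _).trans_lt (max_lt h6 ?_)
    rwa [norm_neg]
  rw [h4] at h8
  exact lt_irrefl _ h8

end Groth.Agent.EtAlg.K235.RefN16
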