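import Groth.Agent.EtAlg.K235.RefN15a
import Groth.Agent.EtAlg.K750.RefN7

/-!
# N18: `LL` is discretely valued
-/

set_option autoImplicit false

namespace Groth.Agent.EtAlg.K235.RefN18

open Groth.Agent.Etalg.EppFrame Groth.Agent.EtAlg.K405

variable {Ω : Type} [NormedField Ω] [IsUltrametricDist Ω] [IsAlgClosed Ω] [CharP Ω 2] (C : Ctx Ω)

theorem N18_disc : ∃ ϖ ∈ C.LL, Disc C.LL ϖ :=
  RefN15a.N18_of C (K750.RefN7.N7a_disc C _ (Or.inl rfl))

end Groth.Agent.EtAlg.K235.RefN18
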